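import Groth.Agent.Lib.Cech.Compare

/-!
# Classes of cocycles in Čech cohomology
-/

universe u

open CategoryTheory CategoryTheory.Limits TopologicalSpace Opposite

namespace Groth.Agent.H68.TwistCech

open Groth.Agent.Lib.Cech.Complex

variable {X : TopCat.{u}} {ι : Type u} (U : ι → Opens X) (P : (Opens X)ᵒᵖ ⥤ AddCommGrpCat.{u})

/-- Positive degree Čech cohomology is cocycles modulo coboundaries. -/
theorem exists_cls (q : ℕ) :
    ∃ cl : (dC U P (q + 1)).ker →+ ((cx U P).homology (q + 1) : Type u),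
      Function.Surjective cl ∧ ∀ z, cl z = 0 ↔ ∃ b, dC U P q b = z.1 := by
  let S := (cx U P).sc' q (q + 1) (q + 2)
  let toKer : (dC U P (q + 1)).ker →+ AddMonoidHom.ker S.g.hom :=
    AddMonoidHom.mk' (fun z => ⟨(equiv U P (q + 1)).symm z.1, by
      apply (equiv U P (q + 2)).injective
      refine Eq.trans ?_ (map_zero (equiv U P (q + 2))).symm
      refine (equiv_d U P (q + 1) _).trans ?_
      rw [AddEquiv.apply_symm_apply]
      exact z.2⟩)
      fun z z' => Subtype.ext (by simp; rfl)
  have htk : Function.Surjective toKer := by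
    rintro ⟨x, hx⟩
    refine ⟨⟨equiv U P (q + 1) x, ?_⟩, Subtype.ext ((equiv U P (q + 1)).symm_apply_apply x)⟩
    refine AddMonoidHom.mem_ker.2 ((equiv_d U P (q + 1) x).symm.trans ?_)
    exact (congrArg (equiv U P (q + 2)) hx).trans (map_zero _)
  let e := ((cx U P).homologyIsoSc' q (q + 1) (q + 2) (by simp) (by simp) ≪≫
    S.abHomologyIso).addCommGroupIsoToAddEquiv
  refine ⟨e.symm.toAddMonoidHom.comp ((QuotientAddGroup.mk' _).comp toKer),
    e.symm.surjective.comp ((QuotientAddGroup.mk'_surjective _).comp htk), fun z => ?_⟩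
  refine (AddEquiv.map_eq_zero_iff (e.symm : _ ≃+ _)).trans ?_
  show (QuotientAddGroup.mk (toKer z) : _ ⧸ AddMonoidHom.range S.abToCycles) = 0 ↔ _
  rw [QuotientAddGroup.eq_zero_iff]
  constructor
  · rintro ⟨b, hb⟩
    refine ⟨equiv U P q b, (equiv_d U P q b).symm.trans ?_⟩
    exact (congrArg (equiv U P (q + 1)) (congrArg Subtype.val hb)).trans (AddEquiv.apply_symm_apply _ _)
  · rintro ⟨b, hb⟩
    refine ⟨(equiv U P q).symm b, Subtype.ext ?_⟩
    apply (equiv U P (q + 1)).injective
    refine (equiv_d U P q _).trans ?_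
    rw [AddEquiv.apply_symm_apply, hb]
    exact ((equiv U P (q + 1)).apply_symm_apply _).symm

end Groth.Agent.H68.TwistCech
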