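import Mathlib.Algebra.DirectSum.Basic
import Groth.Agent.Lib.Cech.Compare

/-!
# Homology of a direct sum, elementwise
-/

universe u

open DirectSum

namespace Groth.Agent.H68.TwistCech.Sum

/-- A complex assembled as the direct sum of a family has as homology the sum of the homologies. -/
theorem nonempty_equiv {κ : Type*} {X Y Z : κ → Type u} [∀ n, AddCommGroup (X n)]
    [∀ n, AddCommGroup (Y n)] [∀ n, AddCommGroup (Z n)] (d : ∀ n, X n →+ Y n) (e : ∀ n, Y n →+ Z n)
    {X' Y' Z' : Type u} [AddCommGroup X'] [AddCommGroup Y'] [AddCommGroup Z'] (D : X' →+ Y') (E : Y' →+ Z')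
    (a : (⨁ n, X n) →+ X') (b : (⨁ n, Y n) →+ Y') (c : (⨁ n, Z n) →+ Z')
    (ha : Function.Surjective a) (hb : Function.Bijective b) (hc : Function.Injective c)
    (hD : ∀ x, D (a x) = b (DirectSum.map d x)) (hE : ∀ y, E (b y) = c (DirectSum.map e y))
    {H : κ → Type u} [∀ n, AddCommGroup (H n)] (cl : ∀ n, (e n).ker →+ H n)
    (hcl : ∀ n, Function.Surjective (cl n)) (hker : ∀ n z, cl n z = 0 ↔ ∃ x, d n x = z.1)
    {H' : Type u} [AddCommGroup H'] (cl' : E.ker →+ H') (hcl' : Function.Surjective cl')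
    (hker' : ∀ z, cl' z = 0 ↔ ∃ x, D x = z.1) :
    Nonempty ((⨁ n, H n) ≃+ H') := by
  classical
  let i : (⨁ n, (e n).ker) →+ ⨁ n, Y n := DirectSum.map fun n => (e n).ker.subtype
  have hi : ∀ z : ⨁ n, (e n).ker, ∀ n, i z n = (z n : Y n) := fun z n => DirectSum.map_apply _ n z
  have hmem : ∀ z : ⨁ n, (e n).ker, b (i z) ∈ E.ker := fun z => by
    rw [AddMonoidHom.mem_ker, hE, show DirectSum.map e (i z) = 0 from DFinsupp.ext fun n => by
      rw [DirectSum.map_apply, hi]
      exact (z n).2, map_zero]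
  let φ : (⨁ n, (e n).ker) →+ H' :=
    cl'.comp ((b.comp i).codRestrict E.ker hmem)
  have hφ : Function.Surjective φ := fun h => by
    obtain ⟨⟨y', hy'⟩, rfl⟩ := hcl' h
    obtain ⟨y, rfl⟩ := hb.2 y'
    have hy : DirectSum.map e y = 0 := hc ((hE y).symm.trans (hy'.trans (map_zero c).symm))
    let z : ⨁ n, (e n).ker := DFinsupp.mk (DFinsupp.support y) fun n =>
      ⟨y n.1, AddMonoidHom.mem_ker.2 (by rw [← DirectSum.map_apply e n.1 y, hy]; rfl)⟩
    have hz : i z = y := DFinsupp.ext fun n => by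
      rw [hi]
      by_cases hn : n ∈ DFinsupp.support y
      · simp [z, DFinsupp.mk_apply, hn]
      · simp [z, DFinsupp.mk_apply, hn, DFinsupp.notMem_support_iff.1 hn]
    exact ⟨z, congrArg cl' (Subtype.ext (congrArg b hz))⟩
  let ψ : (⨁ n, (e n).ker) →+ ⨁ n, H n := DirectSum.map cl
  have hψ : Function.Surjective ψ := (DirectSum.map_surjective cl).2 hcl
  suffices h : ψ.ker = φ.ker from
    ⟨(QuotientAddGroup.quotientKerEquivOfSurjective ψ hψ).symm.trans
      ((QuotientAddGroup.quotientAddEquivOfEq h).trans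
        (QuotientAddGroup.quotientKerEquivOfSurjective φ hφ))⟩
  refine AddSubgroup.ext fun z => ?_
  rw [AddMonoidHom.mem_ker, AddMonoidHom.mem_ker]
  have hψ0 : ψ z = 0 ↔ ∀ n, ∃ x, d n x = (z n).1 := by
    constructor
    · intro h n
      exact (hker n _).1 (by rw [← DirectSum.map_apply cl n z, show DirectSum.map cl z = 0 from h]; rfl)
    · intro h
      refine DFinsupp.ext fun n => ?_
      rw [DirectSum.map_apply]
      exact (hker n _).2 (h n)
  rw [hψ0]
  refine Iff.trans ?_ (hker' _).symm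
  constructor
  · intro h
    choose x hx using h
    let w : ⨁ n, X n := DFinsupp.mk (DFinsupp.support z) fun n => x n.1
    refine ⟨a w, (hD w).trans (congrArg b (DFinsupp.ext fun n => ?_))⟩
    rw [DirectSum.map_apply, hi]
    by_cases hn : n ∈ DFinsupp.support z
    · rw [show w n = x n by simp [w, DFinsupp.mk_apply, hn]]
      exact hx n
    · rw [show w n = 0 by simp [w, DFinsupp.mk_apply, hn], map_zero, DFinsupp.notMem_support_iff.1 hn]
      rfl
  · rintro ⟨x', hx'⟩ n
    obtain ⟨x, rfl⟩ := ha x'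
    refine ⟨x n, ?_⟩
    rw [← DirectSum.map_apply d n x, hb.1 ((hD x).symm.trans hx'), hi]

end Groth.Agent.H68.TwistCech.Sum
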