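import Groth.Agent.H68.TwistCech.Sec
import Groth.Agent.H68.TwistCech.Sum
import Groth.Agent.H68.TwistCech.Class
import Groth.Agent.H68.CokerAlpha.Main
import Groth.Agent.Lib.ZarCoh.Affine
import Groth.Prelude.Def_ega3

set_option linter.unusedSectionVars false
set_option linter.style.haveILetI false

/-!
# `⊕ₙ H^p(U, M(n)~)` is a colimit of Koszul cohomology
-/

noncomputable section

universe u

open CategoryTheory CategoryTheory.Limits AlgebraicGeometry TopologicalSpace Opposite DirectSum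

namespace Groth.Agent.H68.TwistCech

open Groth.Agent.H81.RelProj.GrTilde.Frac Groth.Agent.H81.RelProj.GrTilde.Basic
open Groth.Agent.H68.CokerAlpha (P deg_P sum_P sep fr fr_eq_zero_iff fr_shift fr_surjective pr_mem deg_pos)
open Groth.Agent.Lib.Koszul.Stable Groth.Agent.Lib.FlatCx
open Groth.Agent.Lib.Cech.Complex (inter inter_le_face dC dC_apply)

variable {R σ : Type u} [CommRing R] [SetLike σ R] [AddSubgroupClass σ R] {𝒜 : ℕ → σ} [GradedRing 𝒜]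
variable {M τ : Type u} [AddCommGroup M] [Module R M] [SetLike τ M] [AddSubgroupClass τ M] {ℳ : ℕ → τ}
variable [SetLike.GradedSMul 𝒜 ℳ] [DirectSum.Decomposition ℳ]
variable {ι : Type u} {f : ι → R} {D : ι → ℕ} (hf : ∀ i, f i ∈ 𝒜 (D i)) (hD : ∀ i, 0 < D i)
variable {U : (Proj 𝒜).Opens} (hU : ∀ i, Proj.basicOpen 𝒜 (f i) ≤ U)

variable (𝒜 f U) in
/-- The traces of the `D₊(f i)` on `U`. -/
abbrev Vc : ι → (U : Scheme.{u}).Opens := fun i => U.ι ⁻¹ᵁ Proj.basicOpen 𝒜 (f i)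

variable (ℳ U) in
/-- The presheaf of `M(n)~` on `U`. -/
abbrev Pn (n : ℤ) := (Coh.toAb ((GrMod.tilde 𝒜 ℳ n).restrict U.ι)).obj

include hU in
theorem image_inter {q : ℕ} (t : Fin (q + 1) → ι) :
    U.ι ''ᵁ inter (Vc 𝒜 f U) t = Proj.basicOpen 𝒜 (Cech.pr f t) := by
  have e : inter (Vc 𝒜 f U) t = U.ι ⁻¹ᵁ Proj.basicOpen 𝒜 (Cech.pr f t) := by
    apply TopologicalSpace.Opens.ext
    simp only [inter, TopologicalSpace.Opens.coe_iInf, Scheme.Hom.coe_preimage, ← Set.preimage_iInter]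
    refine congrArg _ (Set.ext fun x => ?_)
    simp only [Set.mem_iInter]
    show (∀ a, f (t a) ∉ x.asHomogeneousIdeal) ↔ (∏ j, f (t j)) ∉ x.asHomogeneousIdeal
    haveI := x.isPrime
    show (∀ a, f (t a) ∉ x.asHomogeneousIdeal.toIdeal) ↔ (∏ j, f (t j)) ∉ x.asHomogeneousIdeal.toIdeal
    rw [Ideal.IsPrime.prod_mem_iff]
    simp
  rw [e, Scheme.Hom.image_preimage_eq_opensRange_inf, Scheme.Opens.opensRange_ι, inf_eq_right]
  refine le_trans (fun x hx => ?_) (hU (t 0))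
  intro h
  exact hx (Ideal.mem_of_dvd _ (Cech.dvd_pr f t 0) h)

include hf hD hU in
/-- Cochains of `M(n)~` as cochains of localisations. -/
def Φn (n : ℤ) (q : ℕ) :
    Lib.Cech.Complex.Cochain (Vc 𝒜 f U) (Pn ℳ U n) q →+ Cech.Cochain M f (q + 1) :=
  AddMonoidHom.mk' (fun c t => φW (pr_mem hf t) (deg_pos hD t) (image_inter hU t)
      (c t : GrMod.sect 𝒜 ℳ n (op (U.ι ''ᵁ inter (Vc 𝒜 f U) t))))
    fun c c' => funext fun t => map_add (φW (pr_mem hf t) (deg_pos hD t) (image_inter hU t)) _ _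

theorem Φn_d (n : ℤ) (q : ℕ) (c : Lib.Cech.Complex.Cochain (Vc 𝒜 f U) (Pn ℳ U n) q) :
    Cech.dT M f (q + 1) (Φn hf hD hU n q c) = Φn hf hD hU n (q + 1) (dC (Vc 𝒜 f U) (Pn ℳ U n) q c) := by
  funext t
  let ψ : (Pn ℳ U n).obj (op (inter (Vc 𝒜 f U) t)) →+ Cech.L (Cech.pr f t) M :=
    φW (ℳ := ℳ) (n := n) (pr_mem hf t) (deg_pos hD t) (image_inter hU t)
  show _ = ψ (dC (Vc 𝒜 f U) (Pn ℳ U n) q c t)
  rw [Cech.dT_apply, dC_apply, map_sum]
  refine Finset.sum_congr rfl fun j _ => ?_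
  rw [map_zsmul ψ, ← Int.cast_smul_eq_zsmul R]
  refine congrArg₂ _ (by push_cast; rfl) ?_
  exact φW_res (image_inter hU _) (pr_mem hf _) (deg_pos hD _) (hf (t j)) (pr_mem hf t) (deg_pos hD t)
    (image_inter hU t) (by rw [Fin.sum_univ_succAbove (fun i => D (t i)) j, add_comm]; rfl)
    (by show _ = ∏ i, f (t i); rw [Fin.prod_univ_succAbove (fun i => f (t i)) j, mul_comm]; rfl) _
    (U.ι.image_mono (inter_le_face (Vc 𝒜 f U) t j)) _

/-- All twists at once. -/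
def Φ (q : ℕ) : (⨁ n : ℤ, Lib.Cech.Complex.Cochain (Vc 𝒜 f U) (Pn ℳ U n) q) →+ Cech.Cochain M f (q + 1) :=
  DirectSum.toAddMonoid fun n => Φn hf hD hU n q

theorem Φ_of (q : ℕ) (n : ℤ) (c : Lib.Cech.Complex.Cochain (Vc 𝒜 f U) (Pn ℳ U n) q) :
    Φ (ℳ := ℳ) hf hD hU q (DirectSum.of _ n c) = Φn hf hD hU n q c := by
  rw [Φ, DirectSum.toAddMonoid_of]

theorem Φ_d (q : ℕ) (x : ⨁ n : ℤ, Lib.Cech.Complex.Cochain (Vc 𝒜 f U) (Pn ℳ U n) q) :
    Cech.dT M f (q + 1) (Φ hf hD hU q x) =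
      Φ hf hD hU (q + 1) (DirectSum.map (fun n => dC (Vc 𝒜 f U) (Pn ℳ U n) q) x) := by
  induction x using DirectSum.induction_on with
  | zero => simp
  | of n c => rw [Φ_of, DirectSum.map_of, Φ_of, Φn_d]
  | add x y hx hy => simp only [map_add, hx, hy]

theorem Φ_injective (q : ℕ) : Function.Injective (Φ (ℳ := ℳ) hf hD hU q) := by
  classical
  refine (injective_iff_map_eq_zero _).2 fun x hx => ?_
  refine DFinsupp.ext fun n => ?_
  by_cases hn : n ∈ DFinsupp.support x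
  swap
  · exact DFinsupp.notMem_support_iff.1 hn
  refine funext fun t => φW_injective (pr_mem hf t) (deg_pos hD t) (image_inter hU t) ?_
  refine Eq.trans ?_ (map_zero (φW (ℳ := ℳ) (n := n) (pr_mem hf t) (deg_pos hD t) (image_inter hU t))).symm
  choose k₀ hk₀ using fun m : ℤ => φW_ge (ℳ := ℳ) (n := m) (pr_mem hf t) (deg_pos hD t) (image_inter hU t) (x m t)
  obtain ⟨K, hK⟩ : ∃ K : ℕ, ∀ m ∈ DFinsupp.support x, k₀ m ≤ K :=
    ⟨(DFinsupp.support x).sup k₀, fun m hm => Finset.le_sup hm⟩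
  have hK' : ∀ m, ∃ a, m ∈ DFinsupp.support x → Deg ℳ ((K : ℤ) * (∑ j, D (t j) : ℕ) + m) a ∧
      φW (pr_mem hf t) (deg_pos hD t) (image_inter hU t) (x m t) = fr (Cech.pr f t) K a := fun m => by
    by_cases hm : m ∈ DFinsupp.support x
    · obtain ⟨a, ha⟩ := hk₀ m K (hK m hm)
      exact ⟨a, fun _ => ha⟩
    · exact ⟨0, fun h => absurd h hm⟩
  choose a ha using hK'
  have h0 : fr (Cech.pr f t) K (∑ m ∈ DFinsupp.support x, a m) = 0 := by
    rw [map_sum]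
    have e := congr_fun hx t
    rw [← DirectSum.sum_support_of x, map_sum, Finset.sum_apply] at e
    refine Eq.trans (Finset.sum_congr rfl fun m hm => ?_) e
    rw [Φ_of]
    exact ((ha m hm).2).symm
  obtain ⟨N, hN⟩ := fr_eq_zero_iff.1 h0
  refine (ha n hn).2.trans (fr_eq_zero_iff.2 ?_)
  refine ⟨N, sep (ℳ := ℳ) (c := ((N • (∑ j, D (t j)) : ℕ) : ℤ) + (K : ℤ) * (∑ j, D (t j) : ℕ))
    (a := fun m => Cech.pr f t ^ N • a m) (fun m hm => ?_) (by rw [← Finset.smul_sum, hN]) hn⟩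
  exact ((ha m hm).1.smul (SetLike.pow_mem_graded N (pr_mem hf t))).congr (by ring)

theorem Φ_surjective [Finite ι] (q : ℕ) : Function.Surjective (Φ (ℳ := ℳ) hf hD hU q) := fun z => by
  classical
  haveI := Fintype.ofFinite ι
  choose k m hm using fun t => fr_surjective (Cech.pr f t) (z t)
  choose S₀ hS₀ using fun t : Fin (q + 1) → ι =>
    sum_P (ℳ := ℳ) ((k t : ℤ) * (∑ j, D (t j) : ℕ)) (m t)
  choose c hc using fun (n : ℤ) (t : Fin (q + 1) → ι) =>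
    exists_φW_eq (pr_mem hf t) (deg_pos hD t) (image_inter hU t)
      (deg_P (ℳ := ℳ) (((k t : ℤ) * (∑ j, D (t j) : ℕ)) + n) (m t))
  let S : Finset ℤ := Finset.univ.biUnion S₀
  refine ⟨∑ n ∈ S, DirectSum.of (fun n : ℤ => Lib.Cech.Complex.Cochain (Vc 𝒜 f U) (Pn ℳ U n) q) n
    (fun t => c n t), funext fun t => ?_⟩
  rw [map_sum, Finset.sum_apply,
    Finset.sum_congr rfl (fun n _ => (congr_fun (Φ_of hf hD hU q n _) t).trans (hc n t)), ← map_sum,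
    hS₀ t S (Finset.subset_biUnion_of_mem S₀ (Finset.mem_univ t))]
  exact hm t

include hf hD in
/-- `⊕ₙ Ȟ^{q+1}` of the twists is `H^{q+2}` of the localisations. -/
theorem nonempty_cech_equiv [Finite ι] (hU : ∀ i, Proj.basicOpen 𝒜 (f i) ≤ U) (q : ℕ) :
    Nonempty ((⨁ n : ℤ, ((Lib.Cech.Complex.cx (Vc 𝒜 f U) (Pn ℳ U n)).homology (q + 1) : Type u)) ≃+
      (Cech.T M f).homology (q + 2)) := by
  choose cl hcl hker using fun n : ℤ => exists_cls (Vc 𝒜 f U) (Pn ℳ U n) q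
  let cl' : (Cech.dT M f (q + 2)).toAddMonoidHom.ker →+ (Cech.T M f).homology (q + 2) :=
    (Elem.cls (K := Cech.T M f) (Cech.next_nat (q + 2))).toAddMonoidHom.comp
      (AddMonoidHom.mk' (fun z => ⟨z.1, (Cech.T_d_apply f _ _).trans z.2⟩) fun _ _ => rfl)
  have hcl' : Function.Surjective cl' := fun h => by
    obtain ⟨⟨c, hc⟩, rfl⟩ := Elem.cls_surjective (K := Cech.T M f) (Cech.next_nat (q + 2)) h
    exact ⟨⟨c, (Cech.T_d_apply f _ _).symm.trans hc⟩, rfl⟩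
  refine Sum.nonempty_equiv (fun n => dC (Vc 𝒜 f U) (Pn ℳ U n) q)
    (fun n => dC (Vc 𝒜 f U) (Pn ℳ U n) (q + 1)) (Cech.dT M f (q + 1)).toAddMonoidHom
    (Cech.dT M f (q + 2)).toAddMonoidHom (Φ hf hD hU q) (Φ hf hD hU (q + 1)) (Φ hf hD hU (q + 2))
    (Φ_surjective hf hD hU q) ⟨Φ_injective hf hD hU _, Φ_surjective hf hD hU _⟩
    (Φ_injective hf hD hU _) (Φ_d hf hD hU q) (Φ_d hf hD hU (q + 1)) cl hcl hker cl' hcl' fun z => ?_
  refine (Elem.cls_eq_zero_iff (K := Cech.T M f) (Cech.prev_nat (q + 1))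
    (Cech.next_nat (q + 2)) _).trans ?_
  exact ⟨fun ⟨b, hb⟩ => ⟨b, (Cech.T_d_apply f _ b).symm.trans hb⟩,
    fun ⟨b, hb⟩ => ⟨b, (Cech.T_d_apply f _ b).trans hb⟩⟩

/-- `⊕ₙ H^p(U, M(n)~)` is `H^{p+1}` of the Koszul colimit. -/
theorem nonempty_equiv (fs : List R) (hfs : ∀ a ∈ fs, ∃ d : ℕ, 0 < d ∧ a ∈ 𝒜 d) (p : ℕ) (hp : 1 ≤ p) :
    Nonempty ((⨁ n : ℤ, Coh.HHon (Proj 𝒜) (GrMod.tilde 𝒜 ℳ n)
        (⨆ i : Fin fs.length, Proj.basicOpen 𝒜 (fs.get i)) p) ≃+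
      CohIII.koszulHLim fs (ModuleCat.of R M) (p + 1)) := by
  obtain ⟨q, rfl⟩ : ∃ q, p = q + 1 := ⟨p - 1, by omega⟩
  let f : ULift.{u} (Fin fs.length) → R := fun i => fs.get i.down
  have hs : ∀ a, a ∈ fs ↔ ∃ i, f i = a := fun a =>
    List.mem_iff_get.trans ⟨fun ⟨j, hj⟩ => ⟨⟨j⟩, hj⟩, fun ⟨j, hj⟩ => ⟨j.down, hj⟩⟩
  choose D hD hf using fun i : ULift.{u} (Fin fs.length) => hfs (f i) (List.get_mem _ _)
  set U : (Proj 𝒜).Opens := ⨆ i : Fin fs.length, Proj.basicOpen 𝒜 (fs.get i) with hUdef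
  have hU : ∀ i, Proj.basicOpen 𝒜 (f i) ≤ U := fun i =>
    le_iSup (fun j : Fin fs.length => Proj.basicOpen 𝒜 (fs.get j)) i.down
  have hcov : iSup (Vc 𝒜 f U) = ⊤ := by
    refine eq_top_iff.2 fun x _ => ?_
    obtain ⟨i, hi⟩ := Opens.mem_iSup.1
      (show x.1 ∈ (⨆ i : Fin fs.length, Proj.basicOpen 𝒜 (fs.get i) : (Proj 𝒜).Opens) from hUdef ▸ x.2)
    exact Opens.mem_iSup.2 ⟨⟨i⟩, hi⟩
  have hH : ∀ n : ℤ, Nonempty (Coh.HHon (Proj 𝒜) (GrMod.tilde 𝒜 ℳ n) U (q + 1) ≃+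
      ((Lib.Cech.Complex.cx (Vc 𝒜 f U) (Pn ℳ U n)).homology (q + 1) : Type u)) := fun n => by
    haveI : (GrMod.tilde 𝒜 ℳ n).IsQuasicoherent :=
      Groth.Agent.H81.RelProj.GrTilde.QCoh.tilde_isQCoh n
    obtain ⟨e⟩ := Groth.Agent.Lib.Cech.Compare.nonempty_cechH_addEquiv_H (U := Vc 𝒜 f U) hcov (q + 1)
      (Coh.toAb ((GrMod.tilde 𝒜 ℳ n).restrict U.ι)) fun p t k => by
        refine Groth.Agent.Lib.ZarCoh.Affine.HU_subsingleton _ ?_ k
        rw [← U.ι.isAffineOpen_iff_of_isOpenImmersion, image_inter hU t]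
        exact Proj.isAffineOpen_basicOpen 𝒜 _ (pr_mem hf t) (deg_pos hD t)
    exact ⟨e.symm⟩
  let e₁ := fun n => (hH n).some
  obtain ⟨e₂⟩ := nonempty_cech_equiv (ℳ := ℳ) hf hD hU q
  obtain ⟨e₃⟩ := Iso.nonempty_equiv fs f hs (q + 2) M
  exact ⟨(DFinsupp.mapRange.addEquiv fun n => e₁ n).trans (e₂.trans e₃.toAddEquiv)⟩

end Groth.Agent.H68.TwistCech
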