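import Groth.Agent.H68.CokerAlpha.Loc

set_option linter.unusedSectionVars false

/-!
# `Γ(D₊(g), M(n)~)` inside `M_g`, compatibly with restriction
-/

noncomputable section

universe u

open CategoryTheory AlgebraicGeometry TopologicalSpace Opposite DirectSum

namespace Groth.Agent.H68.TwistCech

open Groth.Agent.H81.RelProj.GrTilde.Frac Groth.Agent.H81.RelProj.GrTilde.Basic
open Groth.Agent.H68.CokerAlpha
open Groth.Agent.Lib.Koszul.Stable

variable {R σ : Type u} [CommRing R] [SetLike σ R] [AddSubgroupClass σ R] {𝒜 : ℕ → σ} [GradedRing 𝒜]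
variable {M τ : Type u} [AddCommGroup M] [Module R M] [SetLike τ M] [AddSubgroupClass τ M] {ℳ : ℕ → τ}
variable [SetLike.GradedSMul 𝒜 ℳ] [DirectSum.Decomposition ℳ]
variable {n : ℤ} {d : ℕ} {g : R} {W : Opens (ProjectiveSpectrum.top 𝒜)}

/-- `z` is the image in `M_g` of the section `s` over `D₊(g)`. -/
def RepW (g : R) (d : ℕ) (hW : W = ProjectiveSpectrum.basicOpen 𝒜 g) (s : GrMod.sect 𝒜 ℳ n (op W))
    (z : Cech.L g M) : Prop :=
  ∃ (k : ℕ) (a : M), Deg ℳ ((k : ℤ) * d + n) a ∧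
    (∀ y : W, val s y = LocalizedModule.mk a ⟨g ^ k,
      pow_nin k ((ProjectiveSpectrum.mem_basicOpen 𝒜 g y.1).1 (hW.le y.2))⟩) ∧ z = fr g k a

variable (hg : g ∈ 𝒜 d) (hd : 0 < d) (hW : W = ProjectiveSpectrum.basicOpen 𝒜 g)

include hg hd

theorem exists_repW (s : GrMod.sect 𝒜 ℳ n (op W)) : ∃ z, RepW g d hW s z := by
  obtain ⟨k, i, m, hm, hi, hv⟩ := exists_frac_basicOpen hd hg
    (GrMod.res 𝒜 ℳ n (homOfLE hW.ge).op s)
  exact ⟨fr g k m, k, m, Deg.of_mem hm (Or.inl hi), fun y => hv ⟨y.1, hW.le y.2⟩ _, rfl⟩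

theorem repW_unique {s : GrMod.sect 𝒜 ℳ n (op W)} {z z' : Cech.L g M} (h : RepW g d hW s z)
    (h' : RepW g d hW s z') : z = z' := by
  obtain ⟨k, a, ha, hv, rfl⟩ := h
  obtain ⟨l, b, hb, hv', rfl⟩ := h'
  have hk := fun k : ℕ => SetLike.pow_mem_graded (A := 𝒜) k hg
  obtain ⟨N, hN⟩ := exists_pow_smul_eq_zero (𝒜 := 𝒜) hd hg (m := g ^ l • a - g ^ k • b) fun x =>
    (mk_eq_mk_iff (n := n) (hk k) (hk l) (pow_nin k x.2) (pow_nin l x.2)
      (ha.congr (by push_cast [smul_eq_mul]; ring)) (hb.congr (by push_cast [smul_eq_mul]; ring))).1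
      ((hv ⟨x.1, hW.ge x.2⟩).symm.trans (hv' ⟨x.1, hW.ge x.2⟩))
  exact fr_eq_iff.2 ⟨N, by rw [← sub_eq_zero, ← smul_sub]; exact hN⟩

theorem repW_add {s t : GrMod.sect 𝒜 ℳ n (op W)} {z w : Cech.L g M} (h : RepW g d hW s z)
    (h' : RepW g d hW t w) : RepW g d hW (s + t) (z + w) := by
  obtain ⟨k, a, ha, hv, rfl⟩ := h
  obtain ⟨l, b, hb, hv', rfl⟩ := h'
  refine ⟨l + k, g ^ l • a + g ^ k • b,
    ((ha.smul (SetLike.pow_mem_graded l hg)).congr (by push_cast [smul_eq_mul]; ring)).add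
      ((hb.smul (SetLike.pow_mem_graded k hg)).congr (by push_cast [smul_eq_mul]; ring)), fun y => ?_, ?_⟩
  · rw [val_add, hv y, hv' y, LocalizedModule.mk_add_mk, LocalizedModule.mk_eq]
    exact ⟨1, by simp only [one_smul, Submonoid.smul_def, Submonoid.coe_mul, pow_add, mul_comm (g ^ k)]⟩
  · rw [map_add, fr_shift, add_comm l k, fr_shift]

/-- The image in `M_g` of a section of `M(n)~` over `D₊(g)`. -/
def φW : GrMod.sect 𝒜 ℳ n (op W) →+ Cech.L g M :=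
  AddMonoidHom.mk' (fun s => (exists_repW hg hd hW s).choose) fun s t =>
    repW_unique hg hd hW (exists_repW hg hd hW (s + t)).choose_spec
      (repW_add hg hd hW (exists_repW hg hd hW s).choose_spec (exists_repW hg hd hW t).choose_spec)

theorem repW_φW (s : GrMod.sect 𝒜 ℳ n (op W)) : RepW g d hW s (φW hg hd hW s) :=
  (exists_repW hg hd hW s).choose_spec

theorem φW_eq {s : GrMod.sect 𝒜 ℳ n (op W)} {z : Cech.L g M} (h : RepW g d hW s z) :
    φW hg hd hW s = z :=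
  repW_unique hg hd hW (repW_φW hg hd hW s) h

theorem φW_ge (s : GrMod.sect 𝒜 ℳ n (op W)) :
    ∃ k₀ : ℕ, ∀ K, k₀ ≤ K → ∃ a, Deg ℳ ((K : ℤ) * d + n) a ∧ φW hg hd hW s = fr g K a := by
  obtain ⟨k, a, ha, hv, hz⟩ := repW_φW hg hd hW s
  refine ⟨k, fun K hK => ?_⟩
  obtain ⟨l, rfl⟩ := Nat.exists_eq_add_of_le' hK
  exact ⟨g ^ l • a, (ha.smul (SetLike.pow_mem_graded l hg)).congr (by push_cast [smul_eq_mul]; ring),
    hz.trans (fr_shift g k l a).symm⟩

theorem φW_injective : Function.Injective (φW (ℳ := ℳ) (n := n) hg hd hW) :=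
  (injective_iff_map_eq_zero _).2 fun s h => sect_ext fun y => by
    obtain ⟨k, a, ha, hv, hz⟩ := repW_φW hg hd hW s
    obtain ⟨N, hN⟩ := fr_eq_zero_iff.1 (hz.symm.trans h)
    have hy : g ∉ y.1.asHomogeneousIdeal := (ProjectiveSpectrum.mem_basicOpen 𝒜 g y.1).1 (hW.le y.2)
    rw [hv y, val_zero, ← LocalizedModule.zero_mk ⟨g ^ k, pow_nin k hy⟩, LocalizedModule.mk_eq]
    exact ⟨⟨g ^ N, pow_nin N hy⟩, by
      simp only [Submonoid.smul_def, smul_zero]; rw [smul_comm, hN, smul_zero]⟩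

theorem exists_φW_eq {k : ℕ} {a : M} (ha : Deg ℳ ((k : ℤ) * d + n) a) :
    ∃ s : GrMod.sect 𝒜 ℳ n (op W), φW hg hd hW s = fr g k a := by
  refine ⟨fracSec W (SetLike.pow_mem_graded k hg) (ha.congr (by push_cast [smul_eq_mul]; ring))
    (hW.le.trans fun y hy => ?_), φW_eq hg hd hW ⟨k, a, ha, fun y => rfl, rfl⟩⟩
  exact pow_nin k hy

omit hg hd in
/-- Compatibility with restriction. -/
theorem φW_res {g' c : R} {e d' : ℕ} {W' : Opens (ProjectiveSpectrum.top 𝒜)} (hg : g ∈ 𝒜 d) (hd : 0 < d)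
    (hc : c ∈ 𝒜 e) (hg' : g' ∈ 𝒜 d') (hd' : 0 < d') (hW' : W' = ProjectiveSpectrum.basicOpen 𝒜 g')
    (he : d' = d + e) (hgc : g * c = g')
    (hu : IsUnit (algebraMap R (Module.End R (Cech.L g' M)) g)) (h : W' ≤ W)
    (s : GrMod.sect 𝒜 ℳ n (op W)) :
    Cech.ρ g g' hu (φW hg hd hW s) = φW hg' hd' hW' (GrMod.res 𝒜 ℳ n (homOfLE h).op s) := by
  refine (φW_eq hg' hd' hW' ?_).symm
  obtain ⟨k, a, ha, hv, hz⟩ := repW_φW hg hd hW s
  subst hgc he
  refine ⟨k, c ^ k • a, (ha.smul (SetLike.pow_mem_graded k hc)).congr (by push_cast [smul_eq_mul]; ring),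
    fun y => ?_, by rw [hz, ρ_fr rfl]⟩
  rw [val_res, hv]
  show LocalizedModule.mk a _ = _
  rw [LocalizedModule.mk_eq]
  exact ⟨1, by simp only [one_smul, Submonoid.smul_def, smul_smul, mul_pow, mul_comm]⟩

end Groth.Agent.H68.TwistCech
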